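import Groth.Agent.H56.ProjPC.Push
import Groth.Agent.H56.TorPush.Global
import Groth.Agent.H56.TorPush.TorDim
import Groth.Agent.Lib.BettiExact.TorAmpStalk
import Groth.Agent.Lib.Perfect.FlatPerfect
import Groth.Agent.Lib.RightAdjTensor.PerfPush
import Groth.Agent.Lib.SchColim29.RelPerfPush
import Groth.Agent.S0913

/-!
Perfect morphisms and perfect direct images along projective morphisms.
-/

set_option autoImplicit false
set_option linter.style.haveILetI false

universe u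

open CategoryTheory Limits AlgebraicGeometry

attribute [local instance] HasDerivedCategory.standard

namespace Groth.Agent.H56.ProjPC

open Groth.Agent.Lib Groth.Agent.Lib.DerivedOX Groth.Agent.Lib.Perfect.Basic Groth.Agent.Lib.Perfect.PseudoCoh RelPC
open Groth.Agent.Lib.BettiExact

variable {X Y : Scheme.{u}}

theorem pcBase_of_perfectMor (g : X ⟶ Y) [LocallyOfFiniteType g] (hg : MoreMor.IsPerfectMor g) : PCBase g := by
  intro W V hW hV h
  algebraize [(g.appLE V W h).hom]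
  obtain ⟨n, φ, hφ, hk⟩ := H54.RelPC.hom_iff.1 (hg W V hW hV h).1
  exact ⟨Fin n, inferInstance, φ.toRingHom, RingHom.ext fun r => φ.commutes r,
    (pcRing_iff _).2 ⟨hφ, hk⟩⟩

theorem locFiniteTorDim_of_perfectMor (f : X ⟶ Y) (hf : MoreMor.IsPerfectMor f) : DerSch.LocFiniteTorDim f := by
  intro x₀
  obtain ⟨V, hV, hxV₀, -⟩ := exists_isAffineOpen_mem_and_subset (X := Y) (x := f x₀) (U := ⊤) trivial
  obtain ⟨U, hU, hxU₀, hUV⟩ := exists_isAffineOpen_mem_and_subset (X := X) (x := x₀) (U := f ⁻¹ᵁ V) hxV₀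
  let _ := (f.appLE V U hUV).hom.toAlgebra
  obtain ⟨d, hd⟩ := (hf U V hU hV hUV).2
  refine ⟨U, -(d : ℤ), 0, hxU₀, fun x hxU => ?_⟩
  have hxV : f x ∈ V := hUV hxU
  let _ := (f.stalkMap x).hom.toAlgebra
  letI := Y.presheaf.algebra_section_stalk (⟨f x, hxV⟩ : V)
  letI := X.presheaf.algebra_section_stalk (⟨x, hxU⟩ : U)
  let _ : Algebra Γ(Y, V) (X.presheaf.stalk x) :=
    ((algebraMap Γ(X, U) (X.presheaf.stalk x)).comp (f.appLE V U hUV).hom).toAlgebra
  have : IsScalarTower Γ(Y, V) Γ(X, U) (X.presheaf.stalk x) := IsScalarTower.of_algebraMap_eq fun _ => rfl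
  have : IsScalarTower Γ(Y, V) (Y.presheaf.stalk (f x)) (X.presheaf.stalk x) :=
    IsScalarTower.of_algebraMap_eq fun r => by
      show (X.presheaf.germ U x hxU).hom (f.appLE V U hUV r) = f.stalkMap x (Y.presheaf.germ V (f x) hxV r)
      rw [Scheme.Hom.germ_stalkMap_apply, Scheme.Hom.appLE, CommRingCat.comp_apply,
        TopCat.Presheaf.germ_res_apply]
  have := hU.isLocalization_stalk ⟨x, hxU⟩
  have := hV.isLocalization_stalk ⟨f x, hxV⟩
  haveI : Module.Flat Γ(X, U) (X.presheaf.stalk x) :=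
    IsLocalization.flat _ (hU.primeIdealOf ⟨x, hxU⟩).asIdeal.primeCompl
  have h1 := Groth.Agent.H54.TorDimHom.hasTorDimLE_of_flat hd (X.presheaf.stalk x)
  have h2 := Groth.Agent.H54.TorDimHom.hasTorDimLE_localization
    (A' := Y.presheaf.stalk (f x)) (hV.primeIdealOf ⟨f x, hxV⟩).asIdeal.primeCompl _ h1
  exact (H75.TorFactor.Ring.hasTorAmplitudeAt_unitCx_iff f x _ _).2
    (((DR.TorDim.hasTorDimLE_iff (X.presheaf.stalk x) d).1 h2).of_iso
      ((H54.PCRestrict.sgl (Y.presheaf.stalk (f x)) 0).mapIso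
        (DR.FlatBC.resEquiv (Y.presheaf.stalk (f x)) (X.presheaf.stalk x)).toModuleIso).symm)

/-- Pseudo-coherent of locally finite tor amplitude means perfect. -/
theorem isPerfect_of_locFinite (F : CochainComplex Y.Modules ℤ)
    (hpc : ∀ m : ℤ, DCoh.IsPseudoCoherentD m (DCoh.toD Y F))
    (htor : DerSch.LocFiniteTorAmplitude (𝟙 Y) F) : DCoh.IsPerfect (DCoh.toD Y F) := by
  refine (Perfect.Triangle.isPerfect_iff _).2 fun y => ?_
  obtain ⟨V, a, b, hyV, hV⟩ := htor y
  have hF : DerSch.HasTorAmplitude (𝟙 (V : Scheme.{u})) a (max a b) ((DCoh.restrictCx V).obj F) := fun z => by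
    obtain ⟨T, hT, hTf, e⟩ := TorRestrict.torAmpAt_restrict (𝟙 Y) (𝟙 (V : Scheme.{u})) V.ι V.ι
      (by rw [Category.id_comp, Category.comp_id]) F z (hV _ z.2)
    exact ⟨T, fun i hi => hT i (by omega), hTf, e⟩
  have h := Groth.Agent.S0913.result _ a _ (le_max_left a b) (TorAmpStalk.flatAmp_of_torAmp hF)
    ((iff_forall (a - 1) _).2 fun z => ((iff_forall _ _).1
      (SchColim29.RpushPC.isPC_restrictD V.ι (hpc (a - 1))) z).of_iso (RDQ V.ι F))
  exact Perfect.Triangle.PerfAt.of_restrict (j := V.ι) (y := ⟨y, hyV⟩) rfl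
    ((Perfect.Triangle.isPerfect_iff _).1 (Perfect.Triangle.isPerfect_of_iso (RDQ V.ι F).symm h) _)

variable (r : ℕ) (i : X ⟶ CohB1.ProjSpaceOver r Y) [IsClosedImmersion i]
  [DCoh.HasRpush (i ≫ CohB1.ProjSpaceOver.toBase r Y)]

/-- Direct images of pseudo-coherent objects along pseudo-coherent projective morphisms. -/
theorem pcAll_Rpush (hf : PCBase (i ≫ CohB1.ProjSpaceOver.toBase r Y)) (E : DCoh.D X)
    (hE : ∀ m : ℤ, DCoh.IsPseudoCoherentD m E) (m : ℤ) :
    DCoh.IsPseudoCoherentD m ((DCoh.Rpush (i ≫ CohB1.ProjSpaceOver.toBase r Y)).obj E) :=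
  (isPseudoCoherentD_iff_rel (pcBase_of_flat (𝟙 Y)) m _).2 (pcRelAll_Rpush (𝟙 Y) r i E
    (fun k => by
      rw [Category.comp_id]
      exact (isPseudoCoherentD_iff_rel hf k E).1 (hE k)) m)

/-- Direct images of perfect objects along perfect projective morphisms. -/
theorem isPerfect_Rpush (hf : MoreMor.IsPerfectMor (i ≫ CohB1.ProjSpaceOver.toBase r Y)) (E : DCoh.D X)
    (hE : DCoh.IsPerfect E) :
    DCoh.IsPerfect ((DCoh.Rpush (i ≫ CohB1.ProjSpaceOver.toBase r Y)).obj E) := by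
  let f := i ≫ CohB1.ProjSpaceOver.toBase r Y
  obtain ⟨hpc, htor⟩ := (Perfect.FlatPerfect.isPerfect_iff_pc_tor E).1 hE
  let F := DerivedCategory.Q.objPreimage E
  let e : DCoh.toD X F ≅ E := DerivedCategory.Q.objObjPreimageIso E
  have hq : DCoh.IsQCohD (DCoh.toD X F) :=
    Groth.Agent.S11122.isQCohD_of_pc fun m => (iff_forall m _).2 fun x =>
      ((iff_forall m _).1 (hpc m) x).of_iso e.symm
  have hF := TorPush.locFinite_of_torDim f (locFiniteTorDim_of_perfectMor f hf)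
    (F := F) ((Perfect.FlatPerfect.isPerfect_iff_pc_tor _).1 (Perfect.Triangle.isPerfect_of_iso e.symm hE)).2
  let G := DerivedCategory.Q.objPreimage ((DCoh.Rpush f).obj E)
  let eG : DCoh.toD Y G ≅ (DCoh.Rpush f).obj E := DerivedCategory.Q.objObjPreimageIso _
  refine Perfect.Triangle.isPerfect_of_iso eG (isPerfect_of_locFinite G (fun m => (iff_forall m _).2 fun x =>
    ((iff_forall m _).1 (pcAll_Rpush r i (pcBase_of_perfectMor f hf) E hpc m) x).of_iso eG.symm)
    (TorPush.locFinite_Rpush (𝟙 Y) f f (Category.comp_id f) F hq hF G ⟨eG ≪≫ (DCoh.Rpush f).mapIso e.symm⟩))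

end Groth.Agent.H56.ProjPC
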