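import Groth.Agent.H56.ProjPC.Push
import Groth.Agent.H56.AmpNhd.Fibre
import Groth.Agent.Lib.Perfect.PerfAmp
import Groth.Agent.Lib.SchColim29.RelPerfPush
import Groth.Agent.Lib.DerivedOX.RpushQCoh
import Groth.Agent.S0010
import Groth.Agent.S0913

/-!
The cohomological dimension of projective space over an affine base.
-/

set_option autoImplicit false
set_option linter.style.haveILetI false

universe u

open CategoryTheory Limits AlgebraicGeometry TopologicalSpace

attribute [local instance] HasDerivedCategory.standard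

namespace Groth.Agent.H56.ProjPC

open Groth.Agent.Lib Groth.Agent.Lib.DerivedOX Groth.Agent.Lib.DerivedOX.RpushQCoh Groth.Agent.Lib.WayOut.Scheme
open Groth.Agent.Lib.WayOut.Bounded Groth.Agent.Lib.WayOut.Holim DerivedCategory
open Groth.Agent.Lib.SpecSeq.RightHom Groth.Agent.Lib.SpecSeq.AcyclicComplex

variable {X S : Scheme.{u}} (f : X ⟶ S)

/-- Vanishing for a morphism to an affine scheme whose source is covered by finitely many affines. -/
theorem van_of_cover [X.IsSeparated] [IsAffine S] {r : ℕ} (U : Fin (r + 1) → X.Opens)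
    (hU : ∀ i, IsAffineOpen (U i)) (hcov : ⨆ i, U i = ⊤) {W : S.Opens} (hW : IsAffineOpen W) :
    Van (sect (f ⁻¹ᵁ W)) (qc X) (r + 1) := by
  intro M hM n hn
  haveI : M.IsQuasicoherent := hM
  refine isZero_RS_sect (f ⁻¹ᵁ W) r M (fun p hp => ?_) n (by simpa using hn)
  let U' : Fin (r + 1) → X.Opens := fun i => U i ⊓ f ⁻¹ᵁ W
  have h := Groth.Agent.Lib.Cech.MV.subsingleton_HU_iSup_fin (F := Coh.toAb M) r U'
    (fun q i m => ZarCoh.Affine.HU_subsingleton M
      (Groth.Agent.S0010.inter_affine (fun V V' hV hV' => hV.inf hV') q (fun a => U' (i a))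
        fun a => ZarCoh.Bounded.inf_preimage f (hU (i a)) (isAffineOpen_top S) hW le_top le_top) m) p hp
  rwa [show (⨆ i, U' i) = f ⁻¹ᵁ W by simp only [U']; rw [← iSup_inf_eq, hcov, top_inf_eq]] at h

/-- The bound given by the number of affines. -/
theorem isLE_Rpush_of_cover [X.IsSeparated] [IsAffine S] [QuasiCompact f] [QuasiSeparated f] [DCoh.HasRpush f]
    {r : ℕ} (U : Fin (r + 1) → X.Opens) (hU : ∀ i, IsAffineOpen (U i)) (hcov : ⨆ i, U i = ⊤)
    (E : DCoh.D X) (b : ℤ) (hE : DCoh.IsQCohD E) [E.IsLE b] :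
    ((DCoh.Rpush f).obj E).IsLE (b + r) := by
  refine (DerivedCategory.isLE_iff _ _).2 fun n hn => ?_
  obtain ⟨θ⟩ := nonempty_HD_Rpush f E n
  refine IsZero.of_iso ?_ θ
  obtain ⟨I, hI, ⟨e⟩⟩ := RightDerived.exists_resFunctor_obj_iso E
  haveI := hI
  haveI := DerCat.HProd.isIso_counit E
  let eI : DerivedCategory.Q.obj I ≅ E := (quotientCompQhIso _).symm.app I ≪≫
    Qh.mapIso e ≪≫ asIso ((RightDerived.resAdj _).counit.app E)
  haveI := isIso_cmp_of_isKInjective (P f) n I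
  refine IsZero.of_iso ?_ ((RH (P f) n).mapIso eI.symm ≪≫ (asIso ((cmp (P f) n).app I)).symm)
  refine (HomologicalComplex.exactAt_iff_isZero_homology
    (((P f).mapHomologicalComplex (ComplexShape.up ℤ)).obj I) n).1
    ((HomologicalComplex.exactAt_iff _ _).2 (exact_of_sect _ fun W => ?_))
  let e' : sect (f ⁻¹ᵁ W.1) ≅ P f ⋙ sect W.1 := NatIso.ofComponents fun _ => Iso.refl _
  haveI hc := isIso_cmp_of_isKInjective (sect (f ⁻¹ᵁ W.1)) n I
  have z : IsZero ((((sect (f ⁻¹ᵁ W.1)).mapHomologicalComplex (ComplexShape.up ℤ)).obj I).homology n) :=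
    (WayOut.Holim.isZero_RH (detects X) (sect (f ⁻¹ᵁ W.1)) (van_of_cover f U hU hcov W.2) E hE b n (by lia)).of_iso
      (@asIso _ _ _ _ _ hc ≪≫ (RH (sect (f ⁻¹ᵁ W.1)) n).mapIso eI)
  exact (HomologicalComplex.exactAt_iff _ _).1
    (((HomologicalComplex.exactAt_iff_isZero_homology _ _).2 z).of_iso
      ((NatIso.mapHomologicalComplex e' (ComplexShape.up ℤ)).app I))

/-- The standard affine cover of projective space over an affine base. -/
theorem exists_affine_cover (Y : Scheme.{u}) [IsAffine Y] (r : ℕ) :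
    ∃ U : Fin (r + 1) → (CohB1.ProjSpaceOver r Y).Opens, (∀ i, IsAffineOpen (U i)) ∧ ⨆ i, U i = ⊤ := by
  let p : CohB1.ProjSpaceOver r Y ⟶ CohB1.ProjSpace r (ULift.{u} ℤ) := pullback.fst _ _
  haveI : IsAffineHom p :=
    MorphismProperty.pullback_fst (P := @IsAffineHom) _ _ (isAffineHom_of_isAffine _)
  let V : Fin (r + 1) → (CohB1.ProjSpace r (ULift.{u} ℤ)).Opens := fun i =>
    Proj.basicOpen (CohB1.polyGrading r (ULift.{u} ℤ)) (MvPolynomial.X i)
  have hV : ⨆ i, V i = ⊤ := ProjSpace.Basic.iSup_basicOpen_X_eq_top r (ULift.{u} ℤ)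
  refine ⟨fun i => p ⁻¹ᵁ V i,
    fun i => IsAffineHom.isAffine_preimage (f := p) (V i)
      (ProjSpace.Basic.isAffineOpen_basicOpen_X (ULift.{u} ℤ) i), ?_⟩
  rw [← Scheme.Hom.preimage_iSup, hV]
  rfl

theorem isLE_Rpush_projSpace (Y : Scheme.{u}) [IsAffine Y] (r : ℕ)
    [DCoh.HasRpush (CohB1.ProjSpaceOver.toBase r Y)] (E : DCoh.D (CohB1.ProjSpaceOver r Y)) (b : ℤ)
    (hE : DCoh.IsQCohD E) [E.IsLE b] :
    ((DCoh.Rpush (CohB1.ProjSpaceOver.toBase r Y)).obj E).IsLE (b + r) := by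
  haveI := ProjSpace.BaseChange.isProper_toBase (n := r) Y
  haveI : (CohB1.ProjSpaceOver r Y).IsSeparated := ⟨by
    rw [← terminal.comp_from (CohB1.ProjSpaceOver.toBase r Y)]; infer_instance⟩
  obtain ⟨U, hU, hcov⟩ := exists_affine_cover Y r
  exact isLE_Rpush_of_cover _ U hU hcov E b hE

/-- Perfect amplitude of direct images from projective space. -/
theorem perfAmp_Rpush_projSpace (Y : Scheme.{u}) [IsAffine Y] (r : ℕ)
    [DCoh.HasRpush (CohB1.ProjSpaceOver.toBase r Y)] (K : DCoh.D (CohB1.ProjSpaceOver r Y)) {a b : ℤ} (hab : a ≤ b)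
    (h : KSix.HasPerfectAmplitudeIn a b K) :
    KSix.HasPerfectAmplitudeIn a (b + r) ((DCoh.Rpush (CohB1.ProjSpaceOver.toBase r Y)).obj K) := by
  let t := CohB1.ProjSpaceOver.toBase r Y
  haveI := ProjSpace.BaseChange.isProper_toBase (n := r) Y
  haveI := ProjSpace.BaseChange.smooth_toBase (n := r) Y
  obtain ⟨hpc, hfl⟩ := Perfect.PerfAmp.of_hasPerfectAmplitudeIn hab h
  have hperf := Groth.Agent.S0913.result K a b hab hfl hpc
  have hall := ((Perfect.FlatPerfect.isPerfect_iff_pc_tor K).1 hperf).1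
  let F := DerivedCategory.Q.objPreimage K
  let e : DCoh.toD _ F ≅ K := DerivedCategory.Q.objObjPreimageIso K
  obtain ⟨G, hG, hGf, ⟨eG⟩⟩ := id hfl
  have hF : DerSch.HasTorAmplitude t a b F := fun x => by
    simpa only [Category.id_comp] using H56.AmpNhd.torAmpAt_comp_flat (𝟙 _) t F x
      (BettiExact.TorAmpStalk.torAmp_of_flatAmp ⟨G, hG, hGf, ⟨eG ≪≫ e.symm⟩⟩ x)
  have hq : DCoh.IsQCohD (DCoh.toD _ F) := Groth.Agent.S11122.isQCohD_of_pc fun m =>
    (Perfect.PseudoCoh.iff_forall m _).2 fun x => ((Perfect.PseudoCoh.iff_forall m _).1 (hall m) x).of_iso e.symm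
  have h1 := SchColim29.RpushTor.torAmp_Rpush t r (fun E _ b hE _ hb => @isLE_Rpush_projSpace Y _ r _ E b hE hb)
    F hq hF
  have hab' : a ≤ b + r := by omega
  obtain ⟨T, hT, hTf, ⟨eT⟩⟩ := Amplitude.flatAmp_of_torAmp (K := (DCoh.Rpush t).obj (DCoh.toD _ F)) hab'
    (fun G => LeftExists.hasLTensorMod G) h1
  exact Perfect.PerfAmp.hasPerfectAmplitudeIn_of (SchColim29.RpushPC.isPC_Rpush t hall _)
    ⟨T, hT, hTf, ⟨eT ≪≫ (DCoh.Rpush t).mapIso e⟩⟩

end Groth.Agent.H56.ProjPC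

namespace Groth.Agent.H56.ProjPC

open Groth.Agent.Lib Groth.Agent.Lib.Perfect.Basic
open scoped ZeroObject

variable {X : Scheme.{u}}

theorem perfAmp_of_iso {K L : DCoh.D X} (i : K ≅ L) {a b : ℤ} (h : KSix.HasPerfectAmplitudeIn a b K) :
    KSix.HasPerfectAmplitudeIn a b L := fun x => by
  obtain ⟨V, hxV, hV⟩ := h x
  exact ⟨V, hxV, fun F ⟨e⟩ => hV F ⟨e ≪≫ i.symm⟩⟩

theorem perfAmp_of_isZero {K : DCoh.D X} (hK : IsZero K) (a b : ℤ) : KSix.HasPerfectAmplitudeIn a b K := fun x => by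
  refine ⟨⊤, trivial, fun F ⟨e⟩ => ⟨0, fun i _ => ?_, fun i => ?_, ⟨?_⟩⟩⟩
  · exact (HomologicalComplex.eval _ _ i).map_isZero (isZero_zero _)
  · exact Perfect.Stupid.isFinLocFree_isZero ((HomologicalComplex.eval _ _ i).map_isZero (isZero_zero _))
  · exact ((RD (⊤ : X.Opens).ι).map_isZero (hK.of_iso e) |>.of_iso (RDQ (⊤ : X.Opens).ι F).symm).iso
      (DerivedCategory.Q.map_isZero (isZero_zero _))

theorem isZero_of_perfAmp {K : DCoh.D X} {a b : ℤ} (hab : b < a) (h : KSix.HasPerfectAmplitudeIn a b K) :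
    IsZero K := by
  have hHD : ∀ i : ℤ, IsZero (DCoh.HD K i) := by
    intro i
    choose V hxV hV using h
    refine Modules.Local.isZero_of_restrict V ?_ fun x => ?_
    · exact eq_top_iff.2 fun z _ => TopologicalSpace.Opens.mem_iSup.2 ⟨z, hxV z⟩
    · obtain ⟨E, hE, -, ⟨e⟩⟩ := hV x _ ⟨DerivedCategory.Q.objObjPreimageIso K⟩
      exact ((((HomologicalComplex.ExactAt.of_isZero (hE i (by omega))).isZero_homology).of_iso
        ((DerivedCategory.homologyFunctorFactors _ i).app E)).of_iso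
        ((DerivedCategory.homologyFunctor _ i).mapIso ((RD (V x).ι).mapIso
          (DerivedCategory.Q.objObjPreimageIso K).symm ≪≫ RDQ _ _ ≪≫ e))).of_iso
        (Perfect.Coherent.homologyIso (V x).ι K i).symm
  haveI : K.IsLE 0 := (DerivedCategory.isLE_iff K 0).2 fun i _ => hHD i
  haveI : K.IsGE 1 := (DerivedCategory.isGE_iff K 1).2 fun i _ => hHD i
  exact DerivedCategory.TStructure.t.isZero K 0 1

end Groth.Agent.H56.ProjPC
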