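import Groth.Agent.H56.RelPCNoeth.Basic
import Groth.Agent.H56.RelPC.FinitePush
import Groth.Agent.H56.RelPC.Transport
import Groth.Agent.Lib.DerivedOX.RestrictRpush
import Groth.Agent.Lib.DerivedOX.RpushQCoh
import Groth.Agent.Lib.DerivedOX.PullComp
import Groth.Agent.Lib.SchColim29.RpushPC
import Groth.Agent.Lib.ProjSpace.BaseChange

/-!
Direct images of relatively pseudo-coherent objects along projective morphisms, over any base.
-/

set_option autoImplicit false
set_option linter.style.haveILetI false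

universe u

open CategoryTheory Limits AlgebraicGeometry

attribute [local instance] HasDerivedCategory.standard

namespace Groth.Agent.H56.ProjPC

open Groth.Agent.Lib Groth.Agent.Lib.DerivedOX Groth.Agent.Lib.Perfect.Basic Groth.Agent.Lib.Perfect.PseudoCoh RelPC
open Groth.Agent.Lib.ProjSpace.BaseChange

variable {X Y S : Scheme.{u}}

/-- A proper flat morphism of finite presentation over a flat base, with a closed source and a closed target. -/
theorem pcRel_Rpush_square {Z W P A : Scheme.{u}} (g : Z ⟶ W) [IsProper g] (j : W ⟶ A) [IsClosedImmersion j]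
    (c : Z ⟶ P) [IsClosedImmersion c] (t : P ⟶ A) [IsProper t] [Flat t] [LocallyOfFinitePresentation t]
    (π : A ⟶ S) [Flat π] [LocallyOfFinitePresentation π] (hsq : c ≫ t = g ≫ j) [DCoh.HasRpush g]
    {E : DCoh.D Z} (hE : DerSch.IsPseudoCoherentRelAll ((g ≫ j) ≫ π) E) :
    DerSch.IsPseudoCoherentRelAll (j ≫ π) ((DCoh.Rpush g).obj E) := by
  haveI := Exists.hasRpush j
  haveI := Exists.hasRpush c
  haveI := Exists.hasRpush t
  haveI := Exists.hasRpush (c ≫ t)
  haveI := Exists.hasRpush (g ≫ j)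
  have hq : DCoh.IsQCohD E := RelPCNoeth.isQCohD_of_rel _ hE
  have hc : ∀ k : ℤ, DCoh.IsPseudoCoherentD k ((DCoh.Rpush c).obj E) := fun k =>
    (isPseudoCoherentD_iff_rel (pcBase_of_flat (t ≫ π)) k _).2 ((isPseudoCoherentRel_push_iff
      (q := t ≫ π) c (by rw [← Category.assoc, hsq]) hq).1 (hE k))
  let e : (DCoh.Rpush t).obj ((DCoh.Rpush c).obj E) ≅ (DCoh.Rpush j).obj ((DCoh.Rpush g).obj E) :=
    (PullComp.rpushCompIso c t).app E ≪≫
      eqToIso (by congr 2) ≪≫ ((PullComp.rpushCompIso g j).app E).symm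
  intro m
  refine (isPseudoCoherentRel_push_iff (p := j ≫ π) (q := π) j rfl (RpushQCoh.isQCohD_Rpush g E hq)).2 ?_
  exact isPseudoCoherentRel_of_iso e ((isPseudoCoherentD_iff_rel (pcBase_of_flat π) m _).1
    (SchColim29.RpushPC.isPC_Rpush t hc m))

variable (q : Y ⟶ S) [LocallyOfFiniteType q] (r : ℕ) (i : X ⟶ CohB1.ProjSpaceOver r Y) [IsClosedImmersion i]
  [DCoh.HasRpush (i ≫ CohB1.ProjSpaceOver.toBase r Y)]

/-- Direct images along a closed subscheme of projective space keep relative pseudo-coherence. -/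
theorem pcRelAll_Rpush (E : DCoh.D X)
    (hE : DerSch.IsPseudoCoherentRelAll ((i ≫ CohB1.ProjSpaceOver.toBase r Y) ≫ q) E) :
    DerSch.IsPseudoCoherentRelAll q ((DCoh.Rpush (i ≫ CohB1.ProjSpaceOver.toBase r Y)).obj E) := by
  intro m
  refine isPseudoCoherentRel_of_openCover fun y => ?_
  let f := i ≫ CohB1.ProjSpaceOver.toBase r Y
  obtain ⟨V, hV, hyV, -⟩ := exists_isAffineOpen_mem_and_subset (X := S) (x := q y) (U := ⊤) trivial
  obtain ⟨W, hW, hyW, hWV⟩ := exists_isAffineOpen_mem_and_subset (X := Y) (x := y) (U := q ⁻¹ᵁ V) hyV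
  have hft : (q.appLE V W hWV).hom.FiniteType := LocallyOfFiniteType.finiteType_appLE q hV hW hWV
  algebraize [(q.appLE V W hWV).hom]
  obtain ⟨n, φ, hφ⟩ := Algebra.FiniteType.iff_quotient_mvPolynomial''.1 ‹_›
  haveI := isClosedImmersion_imm hW (φ := φ.toRingHom) hφ
  let A : Scheme.{u} := Spec (CommRingCat.of (MvPolynomial (Fin n) Γ(S, V)))
  let j : (W : Scheme.{u}) ⟶ A := imm W φ.toRingHom
  let π : A ⟶ S := Spec.map (CommRingCat.ofHom (MvPolynomial.C (σ := Fin n) (R := Γ(S, V)))) ≫ hV.fromSpec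
  haveI : Flat (Spec.map (CommRingCat.ofHom (MvPolynomial.C (σ := Fin n) (R := Γ(S, V))))) :=
    Flat.SpecMap_iff.mpr (show RingHom.Flat (MvPolynomial.C (σ := Fin n) (R := Γ(S, V))) from
      RingHom.flat_algebraMap_iff.2 inferInstance)
  haveI : LocallyOfFinitePresentation
      (Spec.map (CommRingCat.ofHom (MvPolynomial.C (σ := Fin n) (R := Γ(S, V))))) :=
    (LocallyOfFinitePresentation.SpecMap_iff _).mpr (RingHom.finitePresentation_algebraMap.2 inferInstance)
  have hj : j ≫ π = W.ι ≫ q := by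
    have hC : CommRingCat.ofHom (MvPolynomial.C (σ := Fin n) (R := Γ(S, V))) ≫
        CommRingCat.ofHom φ.toRingHom = q.appLE V W hWV :=
      CommRingCat.hom_ext (RingHom.ext fun r => φ.commutes r)
    simp only [j, π, imm, Category.assoc]
    rw [← Spec.map_comp_assoc, hC, hV.SpecMap_appLE_fromSpec q hW hWV, hW.toSpecΓ_fromSpec_assoc]
  let fW := f ∣_ W
  let a : ((f ⁻¹ᵁ W : X.Opens) : Scheme.{u}) ⟶ CohB1.ProjSpaceOver r (W : Scheme.{u}) :=
    (isPullback_overMap r W.ι).lift ((f ⁻¹ᵁ W).ι ≫ i) fW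
      (by rw [Category.assoc]; exact (morphismRestrict_ι f W).symm)
  have ha : IsPullback (f ⁻¹ᵁ W).ι a i (overMap r W.ι) := by
    refine IsPullback.of_bot ?_ (IsPullback.lift_fst _ _ _ _).symm (isPullback_overMap r W.ι)
    rw [IsPullback.lift_snd]
    exact (isPullback_morphismRestrict f W).flip
  haveI : IsClosedImmersion a := MorphismProperty.of_isPullback ha ‹IsClosedImmersion i›
  haveI : IsClosedImmersion (overMap r j) :=
    MorphismProperty.of_isPullback (isPullback_overMap r j).flip (show IsClosedImmersion j by infer_instance)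
  have hsq : (a ≫ overMap r j) ≫ CohB1.ProjSpaceOver.toBase r A = fW ≫ j := by
    rw [Category.assoc, overMap_toBase, ← Category.assoc, IsPullback.lift_snd]
  haveI := Exists.hasRpush fW
  let E' := (RD (f ⁻¹ᵁ W).ι).obj E
  have hE' : DerSch.IsPseudoCoherentRelAll ((fW ≫ j) ≫ π) E' := fun k => by
    rw [Category.assoc, hj, ← Category.assoc, morphismRestrict_ι, Category.assoc]
    exact isPseudoCoherentRel_restrict (hE k) (f ⁻¹ᵁ W).ι
  have h := pcRel_Rpush_square fW j (a ≫ overMap r j) (CohB1.ProjSpaceOver.toBase r A) π hsq hE' m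
  rw [hj] at h
  exact ⟨W, hyW, isPseudoCoherentRel_of_iso ((RestrictRpush.restrictD_Rpush_iso f W).app E).symm h⟩

end Groth.Agent.H56.ProjPC
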